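import Mathlib
import Cfsg.Agent.Lib.FormRep.SelfDual

/-!
A cyclic group acting without fixed vectors on an irreducible space over a prime field.
-/

set_option autoImplicit false
set_option linter.style.haveILetI false
set_option linter.unusedSectionVars false

open Polynomial

namespace CfsgLib.SemiregSymp

open CfsgLib.SelfDual

variable {p : ℕ} [hp : Fact p.Prime] {V : Type*} [AddCommGroup V] [Module (ZMod p) V]
  [FiniteDimensional (ZMod p) V] {G : Type*} [Group G] [Finite G] {ρ : Representation (ZMod p) G V}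
  {h : G} (hgen : ∀ g : G, g ∈ Subgroup.zpowers h)

include hgen in
theorem inv_of_gen {U : Submodule (ZMod p) V} (hU : ∀ u ∈ U, ρ h u ∈ U) : Inv ρ U := by
  intro g u hu
  obtain ⟨k, rfl⟩ := (Submonoid.mem_powers_iff _ _).mp (mem_powers_iff_mem_zpowers.mpr (hgen g))
  induction k with
  | zero => simpa using hu
  | succ k ih =>
    rw [pow_succ', map_mul, Module.End.mul_apply]
    exact hU _ ih

theorem aeval_comm (q : (ZMod p)[X]) (v : V) :
    ρ h (aeval (ρ h) q v) = aeval (ρ h) q (ρ h v) := by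
  have h1 := congrArg (aeval (ρ h)) (mul_comm X q)
  rw [map_mul, map_mul, aeval_X] at h1
  exact LinearMap.congr_fun h1 v

theorem aeval_mem {M : Submodule (ZMod p) V} (hM : Inv ρ M) {v : V} (hv : v ∈ M) (q : (ZMod p)[X]) :
    aeval (ρ h) q v ∈ M := by
  induction q using Polynomial.induction_on' with
  | add a b ha hb => rw [map_add, LinearMap.add_apply]; exact M.add_mem ha hb
  | monomial k c =>
    rw [aeval_monomial, ← map_pow, Module.End.mul_apply, Module.algebraMap_end_apply]
    exact M.smul_mem c (hM _ _ hv)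

/-- The annihilator of a subspace among the polynomials in the generator. -/
noncomputable def annih (ρ : Representation (ZMod p) G V) (h : G) (M : Submodule (ZMod p) V) (_hM : Inv ρ M) :
    Ideal (ZMod p)[X] where
  carrier := {q | ∀ v ∈ M, aeval (ρ h) q v = 0}
  add_mem' := fun {a b} ha hb v hv => by rw [map_add, LinearMap.add_apply, ha v hv, hb v hv, add_zero]
  zero_mem' := fun v _ => by rw [map_zero, LinearMap.zero_apply]
  smul_mem' := fun c a ha v hv => by
    rw [smul_eq_mul, map_mul, Module.End.mul_apply, ha v hv, map_zero]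

include hgen in
theorem annih_injective {M : Submodule (ZMod p) V} (hM : Irr ρ M) {q : (ZMod p)[X]}
    (hq : q ∉ annih ρ h M hM.1) {v : V} (hv : v ∈ M) (h0 : aeval (ρ h) q v = 0) : v = 0 := by
  let K : Submodule (ZMod p) V := M ⊓ LinearMap.ker (aeval (ρ h) q)
  have hK : Inv ρ K := inv_of_gen hgen fun u hu => by
    refine ⟨hM.1 h u hu.1, ?_⟩
    show aeval (ρ h) q (ρ h u) = 0
    rw [← aeval_comm, LinearMap.mem_ker.mp hu.2, map_zero]
  rcases hM.2 K inf_le_left hK with e | e
  · have : v ∈ K := ⟨hv, h0⟩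
    rw [e, Submodule.mem_bot] at this
    exact this
  · exact absurd (fun w hw => LinearMap.mem_ker.mp ((e.ge hw : w ∈ K)).2) hq

include hgen in
/-- The main facts about an irreducible subspace. -/
theorem irr_facts {M : Submodule (ZMod p) V} (hM : Irr ρ M) (hM0 : M ≠ ⊥)
    (hfree : ∀ g : G, g ≠ 1 → ∀ v, ρ g v = v → v = 0) :
    ((p : ZMod (Nat.card G)) ^ Module.finrank (ZMod p) M = 1) ∧
    ∀ B : LinearMap.BilinForm (ZMod p) V, (∀ g x y, B (ρ g x) (ρ g y) = B x y) → Nd B M →
      2 < Nat.card G → ∃ i, Module.finrank (ZMod p) M = 2 * i ∧ (p : ZMod (Nat.card G)) ^ i = -1 := by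
  classical
  obtain ⟨v, hv, hv0⟩ := (Submodule.ne_bot_iff M).mp hM0
  set I := annih ρ h M hM.1 with hI
  have hmemI : ∀ q, q ∈ I ↔ ∀ w ∈ M, aeval (ρ h) q w = 0 := fun q => Iff.rfl
  have hI0 : I ≠ ⊥ := by
    intro e
    have h1 : minpoly (ZMod p) (ρ h) ∈ I := fun w _ => by rw [minpoly.aeval, LinearMap.zero_apply]
    rw [e, Submodule.mem_bot] at h1
    exact minpoly.ne_zero (Algebra.IsIntegral.isIntegral _) h1
  have hprime : I.IsPrime := by
    refine ⟨fun e => hv0 ?_, fun {a b} hab => ?_⟩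
    · have : (1 : (ZMod p)[X]) ∈ I := by rw [e]; exact Submodule.mem_top
      simpa using this v hv
    · by_contra hcon
      push Not at hcon
      refine hv0 ?_
      have h1 := (hmemI _).mp hab v hv
      rw [map_mul, Module.End.mul_apply] at h1
      exact annih_injective hgen hM hcon.2 hv (annih_injective hgen hM hcon.1 (aeval_mem hM.1 hv b) h1)
  haveI hmax : I.IsMaximal := hprime.isMaximal hI0
  letI := Ideal.Quotient.field I
  -- the evaluation at a nonzero vector
  let φ : (ZMod p)[X] →ₗ[ZMod p] M :=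
    { toFun := fun q => ⟨aeval (ρ h) q v, aeval_mem hM.1 hv q⟩
      map_add' := fun a b => Subtype.ext (by simp [map_add])
      map_smul' := fun c a => Subtype.ext (by simp [map_smul]) }
  have hker : LinearMap.ker φ = I.restrictScalars (ZMod p) := by
    ext q
    rw [LinearMap.mem_ker, Submodule.restrictScalars_mem, hmemI]
    constructor
    · intro h0
      by_contra hq
      exact hv0 (annih_injective hgen hM (q := q) hq hv (congrArg Subtype.val h0))
    · exact fun h0 => Subtype.ext (h0 v hv)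
  have hsurj : Function.Surjective φ := by
    let W : Submodule (ZMod p) V := (LinearMap.range φ).map M.subtype
    have hW : Inv ρ W := inv_of_gen hgen fun u hu => by
      obtain ⟨⟨u', hu'⟩, ⟨q, hq⟩, rfl⟩ := hu
      refine ⟨φ (X * q), ⟨_, rfl⟩, ?_⟩
      show aeval (ρ h) (X * q) v = ρ h u'
      rw [map_mul, Module.End.mul_apply, aeval_X]
      exact congrArg (ρ h) (congrArg Subtype.val hq)
    rcases hM.2 W (Submodule.map_subtype_le _ _) hW with e | e
    · exfalso
      refine hv0 ?_
      have : v ∈ W := ⟨φ 1, ⟨_, rfl⟩, by show aeval (ρ h) (1 : (ZMod p)[X]) v = v; simp⟩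
      rw [e, Submodule.mem_bot] at this
      exact this
    · intro w
      obtain ⟨w', hw', hww⟩ := e.ge w.2
      obtain ⟨q, rfl⟩ := hw'
      exact ⟨q, Subtype.ext hww⟩
  have hfin : Module.finrank (ZMod p) ((ZMod p)[X] ⧸ I) = Module.finrank (ZMod p) M :=
    ((Submodule.Quotient.restrictScalarsEquiv (ZMod p) I).symm.trans
      ((Submodule.quotEquivOfEq _ _ hker.symm).trans (φ.quotKerEquivOfSurjective hsurj))).finrank_eq
  haveI : Module.Finite (ZMod p) ((ZMod p)[X] ⧸ I) :=
    Module.Finite.equiv ((Submodule.Quotient.restrictScalarsEquiv (ZMod p) I).symm.trans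
      ((Submodule.quotEquivOfEq _ _ hker.symm).trans (φ.quotKerEquivOfSurjective hsurj))).symm
  haveI : Finite ((ZMod p)[X] ⧸ I) := Module.finite_of_finite (ZMod p)
  haveI := Fintype.ofFinite ((ZMod p)[X] ⧸ I)
  set α : (ZMod p)[X] ⧸ I := Ideal.Quotient.mk I X with hα
  set d := Module.finrank (ZMod p) M with hd
  have hord : ∀ k : ℕ, α ^ k = 1 ↔ Nat.card G ∣ k := by
    intro k
    rw [hα, ← map_pow, ← map_one (Ideal.Quotient.mk I), Ideal.Quotient.eq, hmemI,
      ← orderOf_eq_card_of_forall_mem_zpowers hgen, orderOf_dvd_iff_pow_eq_one]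
    constructor
    · intro hk
      by_contra hne
      refine hv0 (hfree _ hne v ?_)
      have := hk v hv
      rw [map_sub, aeval_X_pow, map_one, ← map_pow, LinearMap.sub_apply, Module.End.one_apply, sub_eq_zero] at this
      exact this
    · intro hk w _
      rw [map_sub, aeval_X_pow, ← map_pow, hk, map_one, map_one, sub_self, LinearMap.zero_apply]
  have hordα : orderOf α = Nat.card G :=
    Nat.dvd_antisymm (orderOf_dvd_of_pow_eq_one ((hord _).mpr dvd_rfl)) ((hord _).mp (pow_orderOf_eq_one α))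
  have hα0 : α ≠ 0 := by
    intro e
    have h1 := (hord (Nat.card G)).mpr dvd_rfl
    rw [e, zero_pow Nat.card_pos.ne'] at h1
    exact zero_ne_one h1
  have hcard : Fintype.card ((ZMod p)[X] ⧸ I) = p ^ d := by
    rw [Module.card_eq_pow_finrank (K := ZMod p), ZMod.card, hfin]
  refine ⟨?_, fun B hB hn hm => ?_⟩
  · have h1 : Nat.card G ∣ p ^ d - 1 := by
      rw [← hordα, ← hcard]
      exact orderOf_dvd_of_pow_eq_one (FiniteField.pow_card_sub_one_eq_one α hα0)
    rw [← Nat.cast_pow, ← Nat.cast_one (R := ZMod (Nat.card G)), ZMod.natCast_eq_natCast_iff]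
    exact ((Nat.modEq_iff_dvd' (Nat.one_le_pow _ _ hp.out.pos)).mpr h1).symm
  set m := Nat.card G with hmdef
  -- the adjoint of the generator
  have hmove : ∀ (q : (ZMod p)[X]) (x y : V),
      B (aeval (ρ h) q x) y = B x (aeval ((ρ h) ^ (m - 1)) q y) := by
    intro q
    induction q using Polynomial.induction_on' with
    | add a b ha hb => intro x y; simp [map_add, ha x y, hb x y]
    | monomial k c =>
      intro x y
      rw [aeval_monomial, aeval_monomial, ← map_pow, ← pow_mul, ← map_pow, Module.End.mul_apply,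
        Module.End.mul_apply, Module.algebraMap_end_apply, Module.algebraMap_end_apply, map_smul,
        map_smul, LinearMap.smul_apply, form_move B hB]
      congr 3
      apply congrArg ρ
      rw [inv_eq_iff_mul_eq_one, ← pow_add, show k + (m - 1) * k = m * k by
        rw [Nat.sub_mul, one_mul]; have := Nat.le_mul_of_pos_left k (show 0 < m by omega); omega]
      rw [pow_mul, hmdef, pow_card_eq_one', one_pow]
  have hβ : ∀ q ∈ I, aeval (α ^ (m - 1)) q = 0 := by
    intro q hq
    have h1 : q.comp (X ^ (m - 1)) ∈ I := by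
      rw [hmemI]
      intro y hy
      refine nd_flip hn _ (aeval_mem hM.1 hy _) fun x hx => ?_
      show B x _ = 0
      rw [aeval_comp, aeval_X_pow, ← hmove, (hmemI q).mp hq x hx, map_zero,
        LinearMap.zero_apply]
    rw [← Ideal.Quotient.eq_zero_iff_mem] at h1
    rw [← h1, hα, show Ideal.Quotient.mk I (q.comp (X ^ (m - 1))) =
      (Ideal.Quotient.mkₐ (ZMod p) I) (q.comp (X ^ (m - 1))) from rfl, comp_eq_aeval,
      ← aeval_algHom_apply, map_pow]
    rfl
  let σ₀ : (ZMod p)[X] ⧸ I →ₐ[ZMod p] (ZMod p)[X] ⧸ I :=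
    Ideal.Quotient.liftₐ I (aeval (α ^ (m - 1))) hβ
  have hbij : Function.Bijective σ₀ :=
    Finite.injective_iff_bijective.mp σ₀.toRingHom.injective
  let σ := AlgEquiv.ofBijective σ₀ hbij
  obtain ⟨i, hi⟩ := (FiniteField.bijective_frobeniusAlgEquivOfAlgebraic_pow (ZMod p) ((ZMod p)[X] ⧸ I)).2 σ
  set φF := FiniteField.frobeniusAlgEquivOfAlgebraic (ZMod p) ((ZMod p)[X] ⧸ I) with hφF
  have hfrob : ∀ (k : ℕ) (x : (ZMod p)[X] ⧸ I), (φF ^ k) x = x ^ p ^ k := by
    intro k x
    rw [AlgEquiv.coe_pow, hφF, FiniteField.coe_frobeniusAlgEquivOfAlgebraic_iterate, ZMod.card]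
  have hαi : α ^ p ^ (i : ℕ) = α ^ (m - 1) := by
    rw [← hfrob]
    show (φF ^ (i : ℕ)) α = _
    rw [show φF ^ (i : ℕ) = σ from hi]
    show σ₀ α = _
    exact aeval_X _
  have hneg : (p : ZMod m) ^ (i : ℕ) = -1 := by
    have h2 := (orderOf_pos_iff.mp (hordα ▸ (by omega : 0 < m))).pow_eq_pow_iff_modEq.mp hαi
    rw [hordα, ← ZMod.natCast_eq_natCast_iff, Nat.cast_pow, Nat.cast_sub (by omega), ZMod.natCast_self,
      zero_sub, Nat.cast_one] at h2
    exact h2
  have h2i : (φF ^ (2 * (i : ℕ))) = 1 := by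
    have h2 : α ^ p ^ (2 * (i : ℕ)) = α := by
      conv_rhs => rw [← pow_one α]
      rw [(orderOf_pos_iff.mp (hordα ▸ (by omega : 0 < m))).pow_eq_pow_iff_modEq, hordα, ← ZMod.natCast_eq_natCast_iff, Nat.cast_pow, pow_mul',
        hneg, neg_one_sq, Nat.cast_one]
    apply AlgEquiv.ext
    intro x
    have : AlgEquiv.toAlgHom (φF ^ (2 * (i : ℕ))) = AlgHom.id _ _ := by
      refine Ideal.Quotient.algHom_ext _ (Polynomial.algHom_ext ?_)
      show (φF ^ (2 * (i : ℕ))) α = α
      rw [hfrob, h2]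
    exact AlgHom.congr_fun this x
  have hdvd := orderOf_dvd_of_pow_eq_one h2i
  rw [hφF, FiniteField.orderOf_frobeniusAlgEquivOfAlgebraic] at hdvd
  replace hdvd : d ∣ 2 * (i : ℕ) := (dvd_of_eq hfin.symm).trans hdvd
  have hlt : (i : ℕ) < d := i.isLt.trans_eq hfin
  obtain ⟨c, hc⟩ := hdvd
  rcases Nat.eq_zero_or_pos c with rfl | hcpos
  · exfalso
    have hi0 : (i : ℕ) = 0 := by simpa using hc
    rw [hi0, pow_zero] at hneg
    have h2 : ((2 : ℕ) : ZMod m) = 0 := by
      rw [show ((2 : ℕ) : ZMod m) = 1 + 1 by norm_num]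
      nth_rewrite 2 [hneg]
      exact add_neg_cancel 1
    have := Nat.le_of_dvd two_pos ((ZMod.natCast_eq_zero_iff _ _).mp h2)
    omega
  · refine ⟨i, ?_, hneg⟩
    rcases Nat.lt_or_ge c 2 with hc2 | hc2
    · obtain rfl : c = 1 := by omega
      omega
    · have := Nat.mul_le_mul_left d hc2
      omega

end CfsgLib.SemiregSymp
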