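import Mathlib
import Cfsg.Agent.Lib.SemiregSymp.Irred

/-!
A cyclic group acting without fixed vectors on a symplectic space of dimension `2e` over a prime field
has order dividing `p ^ e + 1` or `p ^ e - 1`.
-/

set_option autoImplicit false
set_option linter.style.haveILetI false

namespace CfsgLib.SemiregSymp

open CfsgLib.SelfDual

variable {p : ℕ} [hp : Fact p.Prime] {V : Type*} [AddCommGroup V] [Module (ZMod p) V]
  [FiniteDimensional (ZMod p) V] {G : Type*} [Group G] [Finite G] {ρ : Representation (ZMod p) G V}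
  {B : LinearMap.BilinForm (ZMod p) V}

theorem finrank_add {X R Z : Submodule (ZMod p) V} (hd : Disjoint X R) (hs : X ⊔ R = Z) :
    Module.finrank (ZMod p) Z = Module.finrank (ZMod p) X + Module.finrank (ZMod p) R := by
  have := Submodule.finrank_sup_add_finrank_inf_eq X R
  rw [hs, disjoint_iff.mp hd, finrank_bot, add_zero] at this
  exact this

/-- The sign statement for every invariant nondegenerate subspace. -/
theorem sign_of_nondeg {h : G} (hgen : ∀ g : G, g ∈ Subgroup.zpowers h)
    (hm : 2 < Nat.card G) (hcop : (Nat.card G : ZMod p) ≠ 0)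
    (hfree : ∀ g : G, g ≠ 1 → ∀ v, ρ g v = v → v = 0)
    (halt : ∀ x, B x x = 0) (hB : ∀ g x y, B (ρ g x) (ρ g y) = B x y) :
    ∀ (n : ℕ) (Z : Submodule (ZMod p) V), Module.finrank (ZMod p) Z = n → Inv ρ Z → Nd B Z →
      ∃ e, n = 2 * e ∧
        ((p : ZMod (Nat.card G)) ^ e = 1 ∨ (p : ZMod (Nat.card G)) ^ e = -1) := by
  intro n
  induction n using Nat.strong_induction_on with
  | _ n ih =>
  intro Z hn hZ hZn
  by_cases hZ0 : Z = ⊥
  · refine ⟨0, ?_, Or.inl (pow_zero _)⟩
    rw [← hn, hZ0, finrank_bot]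
  obtain ⟨M, hMZ, hM0, hM⟩ := exists_irr hZ hZ0
  obtain ⟨hd1, hd2⟩ := irr_facts hgen hM hM0 hfree
  have hpos : 0 < Module.finrank (ZMod p) M := by
    rw [Nat.pos_iff_ne_zero]
    exact fun e => hM0 (Submodule.finrank_eq_zero.mp e)
  by_cases hMM : ∃ x ∈ M, ∃ y ∈ M, B x y ≠ 0
  · have hMn : Nd B M := pair_left B hB hM hM.1 hMM
    obtain ⟨i, hi, hneg⟩ := hd2 B hB hMn hm
    obtain ⟨R, -, hRi, hdisj, hsup, hRn⟩ := split_off hB hM.1 hZ hMZ hMn hZn
    have hsum := finrank_add hdisj hsup
    obtain ⟨e, he, hs⟩ := ih _ (by omega) R rfl hRi hRn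
    refine ⟨i + e, by omega, ?_⟩
    rw [pow_add, hneg]
    rcases hs with hs | hs <;> rw [hs]
    · exact Or.inr (mul_one _)
    · exact Or.inl (by rw [neg_mul_neg, mul_one])
  · push Not at hMM
    obtain ⟨N, hNZ, hN, hl, hr, hrank⟩ := exists_partner hB hcop hM hM0 hMZ hZ hZn
    have hdMN : Disjoint M N := by
      rw [Submodule.disjoint_def]
      exact fun x hx hxN => hr x hxN fun y hy => hMM y hy x hx
    have hskew : ∀ x y, B x y = - B y x := fun x y => (LinearMap.IsAlt.neg halt y x).symm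
    have hXn : Nd B (M ⊔ N) := by
      intro z hz h0
      obtain ⟨a, ha, b, hb, rfl⟩ := Submodule.mem_sup.mp hz
      have hb0 : b = 0 := hr b hb fun x hx => by
        have := h0 x (Submodule.mem_sup_left hx)
        rw [map_add, LinearMap.add_apply, hMM a ha x hx, zero_add] at this
        rw [hskew, this, neg_zero]
      subst hb0
      rw [add_zero] at h0 ⊢
      exact hl a ha fun y hy => h0 y (Submodule.mem_sup_right hy)
    obtain ⟨R, -, hRi, hdisj, hsup, hRn⟩ :=
      split_off hB (hM.1.sup ρ hN.1) hZ (sup_le hMZ hNZ) hXn hZn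
    have hsum := finrank_add hdisj hsup
    have hsum' := finrank_add hdMN rfl
    obtain ⟨e, he, hs⟩ := ih _ (by omega) R rfl hRi hRn
    refine ⟨Module.finrank (ZMod p) M + e, by omega, ?_⟩
    rw [pow_add, hd1, one_mul]
    exact hs

/-- The divisibility statement. -/
theorem dvd_of_symplectic (hcyc : IsCyclic G) (hcop : (Nat.card G).Coprime p)
    (hfree : ∀ g : G, g ≠ 1 → ∀ v, ρ g v = v → v = 0)
    (halt : ∀ x, B x x = 0) (hB : ∀ g x y, B (ρ g x) (ρ g y) = B x y)
    (hnd : ∀ x, (∀ y, B x y = 0) → x = 0) {n : ℕ} (hn : Module.finrank (ZMod p) V = 2 * n) :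
    Nat.card G ∣ p ^ n + 1 ∨ Nat.card G ∣ p ^ n - 1 := by
  rcases Nat.lt_or_ge 2 (Nat.card G) with hm | hm
  · obtain ⟨h, hgen⟩ := hcyc.exists_generator
    have hne : (Nat.card G : ZMod p) ≠ 0 := fun e => by
      rw [ZMod.natCast_eq_zero_iff] at e
      exact hp.out.ne_one (Nat.dvd_one.mp (hcop ▸ Nat.dvd_gcd e dvd_rfl))
    obtain ⟨e, he, hs⟩ := sign_of_nondeg hgen hm hne hfree halt hB _ ⊤
      ((finrank_top (ZMod p) V).trans hn) (fun g u _ => Submodule.mem_top)
      (fun x _ h => hnd x fun y => h y Submodule.mem_top)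
    obtain rfl : n = e := by omega
    rcases hs with hs | hs
    · right
      rw [← ZMod.natCast_eq_zero_iff, Nat.cast_sub (Nat.one_le_pow _ _ hp.out.pos), Nat.cast_pow,
        Nat.cast_one, hs, sub_self]
    · left
      rw [← ZMod.natCast_eq_zero_iff, Nat.cast_add, Nat.cast_pow, Nat.cast_one, hs, neg_add_cancel]
  · left
    have h0 : 0 < Nat.card G := Nat.card_pos
    rcases (show Nat.card G = 1 ∨ Nat.card G = 2 by omega) with h1 | h2
    · rw [h1]
      exact one_dvd _
    · rw [h2] at hcop ⊢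
      have hodd : Odd p := (hp.out.eq_two_or_odd').resolve_left fun e => by
        rw [e] at hcop
        exact absurd hcop (by decide)
      obtain ⟨k, hk⟩ := hodd.pow (n := n)
      exact ⟨k + 1, by omega⟩

/-- The same for a group acting on an elementary abelian group with a commutator pairing. -/
theorem dvd_of_pairing {H Q : Type*} [Group H] [Finite H] [CommGroup Q] [Finite Q] (hH : IsCyclic H)
    (hcop : (Nat.card H).Coprime p) (hexp : ∀ q : Q, q ^ p = 1) (ψ : H → (Q →* Q))
    (hone : ∀ q, ψ 1 q = q) (hmul : ∀ x y q, ψ (x * y) q = ψ x (ψ y q))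
    (hfree : ∀ x : H, x ≠ 1 → ∀ q, ψ x q = q → q = 1)
    (c : Q →* (Q →* Multiplicative (ZMod p))) (halt : ∀ q, c q q = 1)
    (hinv : ∀ x a b, c (ψ x a) (ψ x b) = c a b) (hnd : ∀ a, (∀ b, c a b = 1) → a = 1)
    {n : ℕ} (hn : Nat.card Q = p ^ (2 * n)) :
    Nat.card H ∣ p ^ n + 1 ∨ Nat.card H ∣ p ^ n - 1 := by
  have hpV : ∀ v : Additive Q, p • v = 0 := fun v => hexp v.toMul
  have inst : Module (ZMod p) (Additive Q) := AddCommGroup.zmodModule hpV
  haveI : FiniteDimensional (ZMod p) (Additive Q) := Module.Finite.of_finite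
  let ρ : H →* Module.End (ZMod p) (Additive Q) :=
    { toFun := fun x => (MonoidHom.toAdditive (ψ x)).toZModLinearMap p
      map_one' := LinearMap.ext fun v => hone v.toMul
      map_mul' := fun x y => LinearMap.ext fun v => hmul x y v.toMul }
  let D : Additive Q →+ (Additive Q →ₗ[ZMod p] ZMod p) :=
    AddMonoidHom.mk' (fun u => (MonoidHom.toAdditiveLeft (c u.toMul)).toZModLinearMap p) fun u v => by
      refine LinearMap.ext fun w => ?_
      show Multiplicative.toAdd (c (u.toMul * v.toMul) w.toMul) =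
        Multiplicative.toAdd (c u.toMul w.toMul) + Multiplicative.toAdd (c v.toMul w.toMul)
      rw [map_mul]
      rfl
  let B : LinearMap.BilinForm (ZMod p) (Additive Q) :=
    AddMonoidHom.toZModLinearMap p (M₁ := Additive Q →ₗ[ZMod p] ZMod p) D
  have hBv : ∀ u v, B u v = Multiplicative.toAdd (c u.toMul v.toMul) := fun _ _ => rfl
  refine dvd_of_symplectic (ρ := ρ) (B := B) hH hcop (fun x hx v hv => hfree x hx v.toMul hv)
    (fun v => by rw [hBv, halt]; rfl) (fun x u v => by
      rw [hBv, hBv]; exact congrArg Multiplicative.toAdd (hinv x u.toMul v.toMul))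
    (fun u h => hnd u.toMul fun v => Multiplicative.toAdd.injective (h (Additive.ofMul v))) ?_
  have h3 := Module.natCard_eq_pow_finrank (K := ZMod p) (V := Additive Q)
  rw [Nat.card_zmod, Nat.card_congr Additive.toMul, hn] at h3
  exact (Nat.pow_right_injective hp.out.two_le h3).symm

end CfsgLib.SemiregSymp
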